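import Groth.Agent.SheafHomY.Bidual
import Groth.Agent.SheafHomX.Extra
import Groth.Agent.SheafHomX.Coherent
import Groth.Agent.Lib.CurveStable
import Groth.Agent.Lib.CurveOnSurf
import Groth.Agent.Lib.CurveCanonical
import Groth.Agent.Lib.CurveSSVanish
import Groth.Agent.H23.PicMul

/-!
The degree of the dual of a bundle on a smooth curve, and Riemann-Roch for sheaves of homomorphisms.
-/

set_option linter.style.haveILetI false
set_option linter.unusedSectionVars false
set_option backward.isDefEq.respectTransparency false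
set_option backward.isDefEq.respectTransparency.types false
set_option synthInstance.maxHeartbeats 100000
set_option maxHeartbeats 1600000

noncomputable section

universe u

open CategoryTheory CategoryTheory.Limits AlgebraicGeometry TopologicalSpace Opposite

namespace Groth.Agent.CurveHom22

open Groth.Agent.CurveBundle Groth.Agent.CurveSlope Groth.Agent.CurveStable Groth.Agent.SheafHomX
open Groth.Agent.SheafHomY (dual)

variable {X : Scheme.{u}}

/-- Internal homs into a sheaf of ranks `a`, `b`. -/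
theorem isFinLocFreeOfRank_hom {E E' : X.Modules} {a b : ℕ} (hE : FlatMod.IsFinLocFreeOfRank a E)
    (hE' : FlatMod.IsFinLocFreeOfRank b E') : FlatMod.IsFinLocFreeOfRank (a * b) ((hom E).obj E') := by
  intro x
  obtain ⟨U, hxU, ⟨e⟩⟩ := hE x
  obtain ⟨V, hxV, ⟨e'⟩⟩ := hE' x
  let W : X.Opens := U ⊓ V
  have eW : (E.restrict W.ι) ≅ FlatMod.freeMod W a := KFlatLib.restrictFreeIso inf_le_left e
  have eW' : (E'.restrict W.ι) ≅ FlatMod.freeMod W b := KFlatLib.restrictFreeIso inf_le_right e'
  let T : ULift.{u} (Fin a) → (W : Scheme.{u}).Modules := fun _ => Coh.structureModule W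
  let T' : ULift.{u} (Fin b) → (W : Scheme.{u}).Modules := fun _ => Coh.structureModule W
  let f : FlatMod.freeMod W a ≅ ⨁ T :=
    QCoh.freeModIso _ a ≪≫ (biproduct.isoCoproduct T).symm
  let f' : FlatMod.freeMod W b ≅ ⨁ T' :=
    QCoh.freeModIso _ b ≪≫ (biproduct.isoCoproduct T').symm
  let g : E.restrict W.ι ≅ ⨁ T := eW ≪≫ f
  let c : (hom (E.restrict W.ι)).obj (E'.restrict W.ι) ≅ (hom (⨁ T)).obj (E'.restrict W.ι) :=
    { hom := (homMap g.inv).app _
      inv := (homMap g.hom).app _
      hom_inv_id := by rw [← homMap_comp, Iso.hom_inv_id, homMap_id]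
      inv_hom_id := by rw [← homMap_comp, Iso.inv_hom_id, homMap_id] }
  let d : (hom (⨁ T)).obj (E'.restrict W.ι) ≅ ⨁ fun _ : ULift.{u} (Fin a) => E'.restrict W.ι :=
    homBiproductIso T _ ≪≫ biproduct.mapIso fun _ => (unitIso _).app _
  let q : (⨁ fun _ : ULift.{u} (Fin a) => E'.restrict W.ι) ≅ ∐ fun _ : ULift.{u} (Fin a) => FlatMod.freeMod W b :=
    biproduct.isoCoproduct _ ≪≫ Sigma.mapIso fun _ => eW'
  let s : (∐ fun _ : ULift.{u} (Fin a) => FlatMod.freeMod W b) ≅
      ∐ fun p : Σ _ : ULift.{u} (Fin a), ULift.{u} (Fin b) => Coh.structureModule W :=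
    Sigma.mapIso (fun _ => QCoh.freeModIso _ b) ≪≫ sigmaSigmaIso (fun _ : ULift.{u} (Fin a) => ULift.{u} (Fin b)) (fun _ _ => Coh.structureModule W)
  let r : (∐ fun p : Σ _ : ULift.{u} (Fin a), ULift.{u} (Fin b) => Coh.structureModule W) ≅ FlatMod.freeMod W (a * b) :=
    (Sigma.whiskerEquiv (f := fun _ : Σ _ : ULift.{u} (Fin a), ULift.{u} (Fin b) => Coh.structureModule W)
      (g := fun _ : ULift.{u} (Fin (a * b)) => Coh.structureModule W)
      (((Equiv.sigmaEquivProd _ _).trans (Equiv.prodCongr Equiv.ulift Equiv.ulift)).trans (finProdFinEquiv.trans Equiv.ulift.symm))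
      (fun _ => Iso.refl _)) ≪≫ (QCoh.freeModIso _ (a * b)).symm
  exact ⟨W, ⟨hxU, hxV⟩, ⟨(restrictIso W.ι E).app E' ≪≫ c ≪≫ d ≪≫ q ≪≫ s ≪≫ r⟩⟩

theorem exists_kernel_iso_comp {S : ShortComplex X.Modules} (hS : S.Exact) [Epi S.g] (N : X.Modules) :
    ∃ e : (hom S.X₃).obj N ≅ kernel ((homMap S.f).app N), e.hom ≫ kernel.ι _ = (homMap S.g).app N := by
  have hz : (homMap S.g).app N ≫ (homMap S.f).app N = 0 := by
    rw [← homMap_comp, S.zero, homMap_zero]
  have hten : ∀ Z : X.Modules, (S.map ((DCoh.tensorBi (X := X)).obj Z)).Exact ∧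
      Epi (((DCoh.tensorBi (X := X)).obj Z).map S.g) := fun Z => by
    haveI : PreservesColimitsOfSize.{u, u} ((DCoh.tensorBi (X := X)).obj Z) :=
      ⟨fun {K} _ => preservesColimitsOfShape_of_natIso ((KFlatLib.tensorBiFlipIso X).app Z)⟩
    haveI : PreservesFiniteColimits ((DCoh.tensorBi (X := X)).obj Z) :=
      PreservesColimitsOfSize.preservesFiniteColimits _
    exact ⟨hS.map_of_epi_of_preservesCokernel _ inferInstance inferInstance,
      ((DCoh.tensorBi (X := X)).obj Z).map_epi S.g⟩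
  have hmono : Mono ((homMap S.g).app N) := Preadditive.mono_of_cancel_zero _ fun {Z} a ha => by
    haveI : Epi (((DCoh.tensorBi (X := X)).obj Z).map S.g) := (hten Z).2
    have h1 : ((adj S.X₂).homEquiv Z N).symm (a ≫ (homMap S.g).app N) = 0 := by
      rw [ha, Adjunction.homEquiv_counit, Functor.map_zero, zero_comp]
    rw [homEquiv_homMap] at h1
    refine hom_ext ?_
    rw [Adjunction.homEquiv_counit, Adjunction.homEquiv_counit, Functor.map_zero, zero_comp,
      ← Adjunction.homEquiv_counit]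
    exact (cancel_epi (((DCoh.tensorBi (X := X)).obj Z).map S.g)).1 (h1.trans comp_zero.symm)
  refine ⟨IsLimit.conePointUniqueUpToIso (s := KernelFork.ofι _ hz)
    (KernelFork.IsLimit.ofι' _ hz fun {Z} a ha => ?_) (limit.isLimit _),
      IsLimit.conePointUniqueUpToIso_hom_comp _ _ WalkingParallelPair.zero⟩
  haveI : Epi (S.map ((DCoh.tensorBi (X := X)).obj Z)).g := (hten Z).2
  have hb : (S.map ((DCoh.tensorBi (X := X)).obj Z)).f ≫ ((adj S.X₂).homEquiv Z N).symm a = 0 := by
    have h := homEquiv_homMap S.f a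
    rw [show a ≫ (homMap S.f).app N = 0 from ha, Adjunction.homEquiv_counit, Functor.map_zero,
      zero_comp] at h
    exact h.symm
  refine ⟨(adj S.X₃).homEquiv Z N ((hten Z).1.desc _ hb), hom_ext ?_⟩
  rw [homEquiv_homMap, Equiv.symm_apply_apply]
  exact (hten Z).1.g_desc _ hb

open scoped Groth.Agent.H23.PicMul in
theorem cl_dual {L : X.Modules} (hL : PicF.IsInvertible L) : PicF.cl (dual L) * PicF.cl L = 1 := by
  haveI := CurveOnSurf.isEquivalence_tensor hL
  haveI : DCoh.HasSheafHom L := Functor.isLeftAdjoint_of_isEquivalence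
  let σ : DCoh.sheafHom L ≅ hom L :=
    ((Adjunction.ofIsLeftAdjoint (DCoh.tensorBi.obj L)).ofNatIsoLeft
      ((KFlatLib.tensorBiFlipIso X).app L).symm).rightAdjointUniq (adj L)
  letI := H23.PicMul.clMonoid X
  rw [show PicF.cl (dual L) = PicF.cl ((DCoh.sheafHom L).obj (Coh.structureModule X)) from
    (H23.PicMul.cl_eq_iff.2 ⟨σ.app (Coh.structureModule X)⟩).symm]
  exact (CurveOnSurf.dual_of_sheafHom hL).2

variable (k : Type u) [Field k] [X.Over (Spec (CommRingCat.of k))]
  [IsIntegral X] [IsProper (X ↘ Spec (CommRingCat.of k))] [Smooth (X ↘ Spec (CommRingCat.of k))]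
  (hdim : topologicalKrullDim X = 1)

include k in
theorem rk_dual {V : X.Modules} (hV : FlatMod.IsFinLocFree V) :
    FlatMod.IsFinLocFreeOfRank (rk V) (dual V) := by
  simpa using isFinLocFreeOfRank_hom (isFinLocFreeOfRank_rk hV)
    (InvEnd.isFinLocFreeOfRank_one (CurveDeg.isInvertible_structureModule (X := X)))

include k in
theorem isInvertible_of_rk_one {V : X.Modules} (hV : FlatMod.IsFinLocFree V) (h : rk V = 1) :
    PicF.IsInvertible V := fun x =>
  let ⟨U, hx, ⟨e⟩⟩ := (h ▸ isFinLocFreeOfRank_rk hV) x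
  ⟨U, hx, ⟨e ≪≫ coproductUniqueIso _⟩⟩

include hdim in
theorem dg_dual_line {L : X.Modules} (hL : FlatMod.IsFinLocFree L) (h : rk L = 1) :
    dg k (dual L) = - dg k L := by
  have hD := rk_dual k hL
  rw [h] at hD
  have hDi := isInvertible_of_rk_one k (isFinLocFree_of_rank hD) (rk_eq hD)
  have hc := cl_dual (isInvertible_of_rk_one k hL h)
  letI := H23.PicMul.clMonoid X
  obtain ⟨e⟩ := H23.PicMul.cl_eq_iff.1 (show PicF.cl (CohB1.tensorMod (dual L) L) =
    PicF.cl (Coh.structureModule X) from hc)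
  obtain ⟨-, h2⟩ := CurveDuality.dg_tensor_line k hdim hDi hL
  change dg k (CohB1.tensorMod (dual L) L) = _ at h2
  rw [dg_congr k e, h, deg_eq_dg k hD] at h2
  have h0 : dg k (Coh.structureModule X) = 0 := by
    rw [dg, rk_eq (InvEnd.isFinLocFreeOfRank_one CurveDeg.isInvertible_structureModule)]
    simp
  rw [h0] at h2
  push_cast at h2
  linarith

include hdim in
/-- Dualising negates the degree. -/
theorem dg_dual : ∀ (r : ℕ) (V : X.Modules), FlatMod.IsFinLocFree V → rk V = r → dg k (dual V) = - dg k V := by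
  intro r
  induction r using Nat.strong_induction_on with
  | _ r ih =>
  intro V hV hr
  haveI := CurveCohLib.isNoetherian_of_proper (k := k) (X := X)
  rcases Nat.eq_zero_or_pos r with h0 | hpos
  · rw [dg_eq_zero_of_isZero k (isZero_of_rk_zero hV (hr.trans h0)), dg_eq_zero_of_isZero k
      (isZero_of_rk_zero (isFinLocFree_of_rank (rk_dual k hV)) ((rk_eq (rk_dual k hV)).trans (hr.trans h0)))]
    simp
  obtain ⟨F, i, hi, hF, hF1⟩ := CurveDuality.exists_sub_of_rank k hdim hV 1 (by omega)
  obtain ⟨Q, p, hp, hQ, hrQ, -⟩ := exists_quot_bundle k hdim.le hV hF i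
  haveI := hp
  have hVc := coh_of_free k hV
  have hS := shortExact_kernel_of_epi p
  have hKc : Coh.IsCoh (kernel p) := QCoh.isCoh_kernel hVc (coh_of_free k hQ) p
  have hKf := isFinLocFree_of_mono k hdim.le hKc (kernel.ι p) hV
  have hrk := rk_add_coh k _ _ _ hS hVc
  have hdg := dg_add k _ _ _ hS hKc hVc (coh_of_free k hQ)
  have hK1 : rk (kernel p) = 1 := by omega
  let O := Coh.structureModule X
  let a : dual Q ⟶ dual V := (homMap p).app O
  obtain ⟨c, hc⟩ := exists_kernel_iso_comp (S := ShortComplex.mk (kernel.ι p) p (kernel.condition p)) hS.exact O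
  let b : dual V ⟶ dual (kernel p) := (homMap (kernel.ι p)).app O
  have hDV := isFinLocFree_of_rank (rk_dual k hV)
  have hDK := isFinLocFree_of_rank (rk_dual k hKf)
  obtain ⟨I, π, j, hj, hπ, hfac, hKer, hI, hrI, hdI, -, hle⟩ := exists_decomp k hdim.le hDV hDK b
  haveI := hπ
  haveI := hj
  have h1 : dg k (kernel b) = dg k (dual Q) := dg_congr k c.symm
  have h2 : rk (kernel b) = rk (dual Q) := rk_congr c.symm
  have hrQ' := rk_eq (rk_dual k hQ)
  have hrV' := rk_eq (rk_dual k hV)
  have hI1 : rk I = 1 := by omega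
  -- dualise once more
  haveI : Epi (ShortComplex.mk (kernel.ι b) π (by rw [← cancel_mono j, Category.assoc, hfac, kernel.condition, zero_comp])).g := hπ
  have hS' : (ShortComplex.mk (kernel.ι b) π
      (by rw [← cancel_mono j, Category.assoc, hfac, kernel.condition, zero_comp])).Exact := by
    refine ShortComplex.exact_of_f_is_kernel _ (KernelFork.IsLimit.ofι' _ _ fun {A} u hu => ?_)
    exact ⟨kernel.lift b u (by rw [← hfac, reassoc_of% hu, zero_comp]), kernel.lift_ι _ _ _⟩
  obtain ⟨c'⟩ := exists_kernel_iso hS' O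
  haveI := SheafHomY.isIso_toDD hV
  haveI := SheafHomY.isIso_toDD hQ
  let w : kernel ((homMap (kernel.ι b)).app O) ≅ kernel (SheafHomY.ddMap p) := by
    let cc : dual (dual Q) ≅ dual (kernel b) :=
      { hom := (homMap c.inv).app O
        inv := (homMap c.hom).app O
        hom_inv_id := by rw [← homMap_comp, Iso.hom_inv_id, homMap_id]
        inv_hom_id := by rw [← homMap_comp, Iso.inv_hom_id, homMap_id] }
    refine (kernel.mapIso _ _ (Iso.refl _) cc ?_).symm
    have : c.inv ≫ a = kernel.ι b := (Iso.inv_comp_eq c).2 hc.symm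
    show SheafHomY.ddMap p ≫ cc.hom = 𝟙 _ ≫ _
    rw [Category.id_comp, SheafHomY.ddMap, ← homMap_comp, this]
  let w' : kernel (SheafHomY.ddMap p) ≅ kernel p :=
    (kernel.mapIso p (SheafHomY.ddMap p) (asIso (SheafHomY.toDD V)) (asIso (SheafHomY.toDD Q))
      (SheafHomY.toDD_naturality p)).symm
  have hIK : dg k (dual I) = dg k (kernel p) := dg_congr k (c' ≪≫ w ≪≫ w')
  have hIl := dg_dual_line k hdim hI hI1
  have hQd := ih (rk Q) (by omega) Q hQ rfl
  linarith

include hdim in
/-- Riemann-Roch for homomorphisms of bundles. -/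
theorem euler_hom {Q F : X.Modules} {n : ℕ} (hQ : FlatMod.IsFinLocFree Q) (hF : FlatMod.IsFinLocFreeOfRank n F) :
    Curv2.euler k X ((hom Q).obj F) = (rk Q : ℤ) * Curv2.deg k X F n - (n : ℤ) * dg k Q +
      (n : ℤ) * rk Q * Curv2.euler k X (Coh.structureModule X) := by
  have hD := rk_dual k hQ
  haveI := SheafHomY.isIso_theta hQ F
  rw [← CurveCohLib.euler_congr (k := k) (asIso (SheafHomY.theta Q F)),
    CurveTensor.euler_tensor k hdim hF (coh_of_free k (isFinLocFree_of_rank hD)), rk_eq hD]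
  have h := dg_dual k hdim _ Q hQ rfl
  unfold dg at h ⊢
  rw [rk_eq hD] at h
  linear_combination (n : ℤ) * h

end Groth.Agent.CurveHom22
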